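import Mathlib
import Cfsg.Agent.S0700
import Cfsg.Agent.S0496
import Cfsg.Agent.Lib.Hall

/-!
# S0679, piece (R660): a doubly transitive group of degree 11 and order 660 without normal
Sylow 11-subgroup is simple
-/

set_option autoImplicit false

namespace Cfsg.Agent.Helper54.D11

open Equiv MulAction

variable {α : Type*} [Fintype α] [DecidableEq α]

theorem simple_of_card_660 [Fact (Nat.Prime 11)] (hα : Fintype.card α = 11)
    (G : Subgroup (Perm α)) (h2 : IsMultiplyPretransitive G α 2) (hcard : Nat.card G = 660)
    (hsyl : Nat.card (Sylow 11 G) ≠ 1) : IsSimpleGroup G := by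
  classical
  haveI : Nontrivial G := by
    rw [← Finite.one_lt_card_iff_nontrivial, hcard]
    norm_num
  obtain ⟨M, hMn, hM1, hmin⟩ := Cfsg.Agent.Lib.exists_minimal_normal (G := G)
  haveI := hMn
  have hprim : IsPreprimitive G α := isPreprimitive_of_is_two_pretransitive h2
  haveI := hprim
  -- `M` is transitive
  have hMtrans : IsPretransitive M α := by
    apply IsQuasiPreprimitive.isPretransitive_of_normal (G := G)
    intro htop
    apply hM1
    rw [Subgroup.eq_bot_iff_forall]
    intro m hm
    apply Subtype.ext
    apply Equiv.Perm.ext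
    intro a
    have ha : a ∈ fixedPoints M α := by rw [htop]; trivial
    exact ha ⟨m, hm⟩
  obtain ⟨a⟩ : Nonempty α := by
    rw [← Fintype.card_pos_iff, hα]; norm_num
  have hidx : (stabilizer M a).index = 11 := by
    rw [MulAction.index_stabilizer_of_transitive M a, Nat.card_eq_fintype_card, hα]
  have h11M : 11 ∣ Nat.card M := by
    rw [← hidx]; exact Subgroup.index_dvd_card _
  have hMdvd : Nat.card M ∣ 660 := by
    rw [← hcard]; exact Subgroup.card_subgroup_dvd_card M
  -- `|M| ≠ 11`
  have hK : Nat.card M ≠ 11 := by
    intro hM11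
    apply hsyl
    have hMp : IsPGroup 11 M := IsPGroup.of_card (n := 1) (by rw [hM11, pow_one])
    obtain ⟨Q, hQ⟩ := hMp.exists_le_sylow
    have hQcard : Nat.card Q = 11 := by
      obtain ⟨n, hn⟩ := IsPGroup.iff_card.mp Q.isPGroup'
      have hd : Nat.card Q ∣ 660 := by
        rw [← hcard]; exact Subgroup.card_subgroup_dvd_card _
      have hge : Nat.card M ≤ Nat.card Q := Subgroup.card_le_of_le hQ
      rw [hn] at hd hge ⊢
      rw [hM11] at hge
      have hn2 : n < 2 := by
        by_contra hcon
        push Not at hcon
        have : 11 ^ 2 ∣ 660 := dvd_trans (pow_dvd_pow 11 hcon) hd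
        norm_num at this
      interval_cases n
      · norm_num at hge
      · norm_num
    have hMQ : M = (Q : Subgroup G) :=
      Subgroup.eq_of_le_of_card_ge hQ (by rw [hQcard, hM11])
    have hQn : (Q : Subgroup G).Normal := hMQ ▸ hMn
    haveI := Sylow.unique_of_normal Q hQn
    exact Nat.card_unique
  rcases Cfsg.Agent.S0700.result G h2 M hM1 hmin with ⟨-, -, hstab⟩ | ⟨hMsimple, -⟩
  · exfalso
    apply hK
    have := hstab a
    rw [this, Subgroup.index_bot] at hidx
    exact hidx
  · haveI := hMsimple
    have hnc : ¬ IsMulCommutative M := by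
      intro hc
      letI : CommGroup M :=
        { (inferInstance : Group M) with mul_comm := fun x y => hc.is_comm.comm x y }
      have hp : (Nat.card M).Prime := IsSimpleGroup.prime_card
      exact hK ((Nat.prime_dvd_prime_iff_eq (by norm_num) hp).mp h11M).symm
    have hle : Nat.card M ≤ 1092 := le_trans (Nat.le_of_dvd (by norm_num) hMdvd) (by norm_num)
    have hMcard : Nat.card M = 660 := by
      rcases Cfsg.Agent.S0496.result hnc hle with h | h | h | h | h | h <;> rw [h] at h11M hMdvd
        <;> first | exact h | omega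
    have hMtop : M = ⊤ := Subgroup.eq_top_of_card_eq M (by rw [hMcard, hcard])
    refine IsSimpleGroup.isSimpleGroup_of_surjective M.subtype ?_
    intro g
    exact ⟨⟨g, hMtop ▸ Subgroup.mem_top g⟩, rfl⟩

end Cfsg.Agent.Helper54.D11
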