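import Mathlib
import Cfsg.Agent.Helper54.D11.R660
import Cfsg.Agent.Helper10.D11D25
import Cfsg.Agent.Helper10.D11N3b
import Cfsg.Agent.Helper24.D11AR
import Cfsg.Agent.Helper24.D11CM
import Cfsg.Agent.Helper29.D11CT2
import Cfsg.Agent.Helper29.D11CT3
import Cfsg.Agent.Helper31.D11G72
import Cfsg.Agent.Helper31.D11S5
import Cfsg.Agent.Helper32.D11S11
import Cfsg.Agent.Helper47.D11FS
import Cfsg.Agent.Helper47.D11OS
import Cfsg.Agent.Helper59.D11DA
import Cfsg.Agent.Helper65.D11EN
import Cfsg.Agent.Helper65.D11JS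
import Cfsg.Agent.Helper72.D11WT
import Cfsg.Agent.Helper73.D11T1
import Cfsg.Agent.Helper87.D11CT57
import Cfsg.Agent.Helper87.D11SH
import Cfsg.Agent.Helper93.D11DC
import Cfsg.Agent.Helper93.D11N3a
import Cfsg.Agent.S0675
import Cfsg.Agent.S0676
import Cfsg.Agent.S0498
import Cfsg.Agent.Helper12.Deg7Aux

/-!
# S0679: transitive groups of degree 11 (assembly)
-/

set_option autoImplicit false

namespace Cfsg.Agent.Helper54.D11

open Equiv MulAction Cfsg.Agent.Helper10.D11 Cfsg.Agent.Helper24.D11 Cfsg.Agent.Helper29.D11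
  Cfsg.Agent.Helper31.D11 Cfsg.Agent.Helper32.D11 Cfsg.Agent.Helper47.D11 Cfsg.Agent.Helper59.D11
  Cfsg.Agent.Helper65.D11 Cfsg.Agent.Helper72.D11 Cfsg.Agent.Helper73.D11 Cfsg.Agent.Helper87.D11
  Cfsg.Agent.Helper93.D11

variable {α : Type*} [Fintype α] [DecidableEq α]

/-- no element of a doubly transitive group of degree 11 (not containing `A₁₁`) moves exactly
four points -/
theorem no_support_four (hα : Fintype.card α = 11) (G : Subgroup (Perm α))
    [IsPretransitive G α] (hA : ¬ alternatingGroup α ≤ G)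
    (h2 : IsMultiplyPretransitive G α 2) {t : Perm α} (ht : t ∈ G) : t.support.card ≠ 4 := by
  intro h4
  obtain ⟨g, hg, hcard⟩ := exists_inter_card_one hα G h2 t.support h4
  obtain ⟨x, hx⟩ := Finset.card_eq_one.mp hcard
  have hsupp : (g * t * g⁻¹).support = t.support.image g := by
    rw [Equiv.Perm.support_conj, Finset.map_eq_image]
    rfl
  have hcm := commutator_support t (g * t * g⁻¹) x (by rw [hsupp]; exact hx)
  have hc : t * (g * t * g⁻¹) * t⁻¹ * (g * t * g⁻¹)⁻¹ ∈ G :=
    G.mul_mem (G.mul_mem (G.mul_mem ht (G.mul_mem (G.mul_mem hg ht) (G.inv_mem hg)))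
      (G.inv_mem ht)) (G.inv_mem (G.mul_mem (G.mul_mem hg ht) (G.inv_mem hg)))
  have h1 := four_le_support hα G hA hc hcm.1
  have h3 : (t * (g * t * g⁻¹) * t⁻¹ * (g * t * g⁻¹)⁻¹).support.card ≤ 3 :=
    le_trans (Finset.card_le_card hcm.2) Finset.card_le_three
  omega

/-- a prime dividing the order of a permutation of 11 points -/
theorem prime_order_cases (hα : Fintype.card α = 11) (y : Perm α) (hp : (orderOf y).Prime) :
    orderOf y = 2 ∨ orderOf y = 3 ∨ orderOf y = 5 ∨ orderOf y = 7 ∨ orderOf y = 11 := by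
  have h1 : orderOf y ∣ Nat.factorial 11 := by
    have := orderOf_dvd_card (x := y)
    rwa [Fintype.card_perm, hα] at this
  have h2 : orderOf y ≤ 11 := (hp.dvd_factorial).mp h1
  have h3 := hp.two_le
  generalize orderOf y = r at *
  interval_cases r <;> first | omega | (exfalso; revert hp; decide)

/-- an element of prime order commuting with an element of order 5 has order 5 -/
theorem order_five_of_commute (hα : Fintype.card α = 11) (G : Subgroup (Perm α))
    [IsPretransitive G α] (hA : ¬ alternatingGroup α ≤ G)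
    (hev : ∀ g ∈ G, Perm.sign g = 1) (h4s : ∀ t ∈ G, t.support.card ≠ 4)
    (f y : Perm α) (hf : f ∈ G) (hy : y ∈ G) (hof : orderOf f = 5) (hc : Commute f y)
    (hp : (orderOf y).Prime) : orderOf y = 5 := by
  have hfs := support_of_order_five hα G hA hf hof
  have h5 := five_dvd_support_of_commute hα hof hfs hc
  rcases prime_order_cases hα y hp with h | h | h | h | h
  · rcases support_of_order_two hα (hev y hy) h with h' | h' <;> omega
  · rcases support_of_order_three hα G hA hy h with h' | h' <;> omega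
  · exact h
  · exact absurd h (orderOf_ne_seven hα G hA hy)
  · have := support_of_order_eleven hα h
    omega

theorem not_seven_dvd_card (hα : Fintype.card α = 11) (G : Subgroup (Perm α))
    [IsPretransitive G α] (hA : ¬ alternatingGroup α ≤ G) : ¬ 7 ∣ Nat.card G := by
  intro h
  haveI : Fact (Nat.Prime 7) := ⟨by norm_num⟩
  obtain ⟨g, hg⟩ := exists_prime_orderOf_dvd_card' 7 h
  have : orderOf (g : Perm α) = 7 := by rw [Subgroup.orderOf_coe]; exact hg
  exact orderOf_ne_seven hα G hA g.2 this

theorem card_stabilizer_two (hα : Fintype.card α = 11) (G : Subgroup (Perm α))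
    (h2 : IsMultiplyPretransitive G α 2) (x : Fin 2 ↪ α) :
    Nat.card (stabilizer G x) * 110 = Nat.card G := by
  have := card_stabilizer_mul hα G 2 h2 x
  have h110 : (11 : ℕ).descFactorial 2 = 110 := by decide
  rwa [h110] at this

/-- the order theorem for even groups -/
theorem card_eq_660_or_7920 (hα : Fintype.card α = 11) (G : Subgroup (Perm α))
    [IsPretransitive G α] (hG : ¬ Group.IsSolvable G) (hA : ¬ alternatingGroup α ≤ G)
    (hev : ∀ g ∈ G, Perm.sign g = 1) : Nat.card G = 660 ∨ Nat.card G = 7920 := by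
  haveI : Fact (Nat.Prime 11) := ⟨by norm_num⟩
  haveI : Fact (Nat.Prime 5) := ⟨by norm_num⟩
  have h2 : IsMultiplyPretransitive G α 2 :=
    (Cfsg.Agent.S0675.result (by rw [hα]; norm_num) G).resolve_left hG
  have h5s : ∀ f ∈ G, orderOf f = 5 → f.support.card = 10 :=
    fun f hf ho => support_of_order_five hα G hA hf ho
  have h4s : ∀ t ∈ G, t.support.card ≠ 4 := fun t ht => no_support_four hα G hA h2 ht
  have hC := order_five_of_commute hα G hA hev h4s
  obtain ⟨x⟩ : Nonempty (Fin 2 ↪ α) := by
    rw [← Fintype.card_pos_iff (α := Fin 2 ↪ α), Fintype.card_embedding_eq, hα]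
    decide
  have h110 : 110 ∣ Nat.card G := ⟨_, (by rw [mul_comm]; exact (card_stabilizer_two hα G h2 x).symm)⟩
  have h25 := not_25_dvd_card hα G h2 h5s
  have h7 := not_seven_dvd_card hα G hA
  have hdvd := card_dvd_of_even hα G hev
  have h11 := card_eq_55_mul hα G hG hev
  have hn : Nat.card (Sylow 11 G) % 11 = 1 := card_sylow_modEq_one 11 G
  have h5 : 5 ∣ Nat.card G := dvd_trans (by norm_num) h110
  obtain ⟨k, hk, h5k⟩ := card_eq_five_mul G h5 h25
    (fun f y hf hy hof hc hp => hC f y hf hy hof hc hp)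
  have hm : Nat.card (Sylow 5 G) % 5 = 1 := card_sylow_modEq_one 5 G
  exact card_arith _ _ _ k hdvd h110 h7 h25 h11 hn hk h5k hm

/-- order 660 -/
theorem iso_of_card_660 (hα : Fintype.card α = 11) (G : Subgroup (Perm α))
    [IsPretransitive G α] (hG : ¬ Group.IsSolvable G)
    (hev : ∀ g ∈ G, Perm.sign g = 1) (hcard : Nat.card G = 660) :
    Nonempty (G ≃* Matrix.ProjectiveSpecialLinearGroup (Fin 2) (ZMod 11)) := by
  haveI : Fact (Nat.Prime 11) := ⟨by norm_num⟩
  have h2 : IsMultiplyPretransitive G α 2 :=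
    (Cfsg.Agent.S0675.result (by rw [hα]; norm_num) G).resolve_left hG
  have h11 := card_eq_55_mul hα G hG hev
  have hsyl : Nat.card (Sylow 11 G) ≠ 1 := by
    intro h
    rw [h, hcard] at h11
    omega
  haveI := simple_of_card_660 hα G h2 hcard hsyl
  exact Cfsg.Agent.S0498.result (G := G) 11 (Or.inl rfl) (by rw [hcard]; norm_num) (F := ZMod 11)
    (ZMod.card 11)

/-- order 7920: no non-identity element fixes four points -/
theorem eight_le_support (hα : Fintype.card α = 11) (G : Subgroup (Perm α))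
    [IsPretransitive G α] (hG : ¬ Group.IsSolvable G) (hA : ¬ alternatingGroup α ≤ G)
    (hev : ∀ g ∈ G, Perm.sign g = 1) (hcard : Nat.card G = 7920)
    (g : Perm α) (hg : g ∈ G) (hg1 : g ≠ 1) : 8 ≤ g.support.card := by
  have h2 : IsMultiplyPretransitive G α 2 :=
    (Cfsg.Agent.S0675.result (by rw [hα]; norm_num) G).resolve_left hG
  have h5s : ∀ f ∈ G, orderOf f = 5 → f.support.card = 10 :=
    fun f hf ho => support_of_order_five hα G hA hf ho
  have h4s : ∀ t ∈ G, t.support.card ≠ 4 := fun t ht => no_support_four hα G hA h2 ht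
  have hinv : ∀ t ∈ G, orderOf t = 2 → 8 ≤ t.support.card := by
    intro t ht ho
    rcases support_of_order_two hα (hev t ht) ho with h | h
    · exact absurd h (h4s t ht)
    · omega
  have hst : ∀ x : Fin 2 ↪ α, Nat.card (stabilizer G x) = 72 := by
    intro x
    have := card_stabilizer_two hα G h2 x
    omega
  have h16 : ∀ x : Fin 2 ↪ α,
      Nat.card {K : Subgroup (stabilizer G x) // Nat.card K = 3} ≤ 16 :=
    fun x => card_subgroups_order_three_le (hst x)
  by_contra hlt
  push Not at hlt
  have ho1 : orderOf g ≠ 1 := fun h => hg1 (orderOf_eq_one_iff.mp h)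
  obtain ⟨r, hr, hrd⟩ := Nat.exists_prime_and_dvd ho1
  set h := g ^ (orderOf g / r) with hh
  have hoh : orderOf h = r := orderOf_pow_orderOf_div (orderOf_pos g).ne' hrd
  have hhG : h ∈ G := G.pow_mem hg _
  have hsub : h.support.card ≤ 7 :=
    le_trans (Finset.card_le_card (Equiv.Perm.support_pow_le g _)) (by omega)
  have hp : (orderOf h).Prime := by rw [hoh]; exact hr
  rcases prime_order_cases hα h hp with h' | h' | h' | h' | h'
  · have := hinv h hhG h'
    omega
  · rcases support_of_order_three hα G hA hhG h' with h6 | h9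
    · -- the double count
      have hos : orderOf (⟨h, hhG⟩ : G) = 3 := by
        rw [← Subgroup.orderOf_coe]; exact h'
      have hN16 := not_16_dvd_card_normalizer hα G hinv ⟨h, hhG⟩ hos h6
      have hN511 := not_5_11_dvd_card_normalizer hα G h5s
        (fun f y hf hfs hc => five_dvd_support_of_commute hα hf hfs hc) ⟨h, hhG⟩ hos h6
      have hNd : Nat.card (Subgroup.normalizer
          ((Subgroup.zpowers (⟨h, hhG⟩ : G) : Subgroup G) : Set G)) ∣ 7920 := by
        rw [← hcard]; exact Subgroup.card_subgroup_dvd_card _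
      have hN72 : Nat.card (Subgroup.normalizer
          ((Subgroup.zpowers (⟨h, hhG⟩ : G) : Subgroup G) : Set G)) ∣ 72 := by
        generalize Nat.card (Subgroup.normalizer
          ((Subgroup.zpowers (⟨h, hhG⟩ : G) : Subgroup G) : Set G)) = d at *
        have h5c : Nat.Coprime d 5 :=
          ((Nat.Prime.coprime_iff_not_dvd (by norm_num)).mpr hN511.1).symm
        have h11c : Nat.Coprime d 11 :=
          ((Nat.Prime.coprime_iff_not_dvd (by norm_num)).mpr hN511.2).symm
        have h55 : Nat.Coprime d 55 := by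
          have h : (55 : ℕ) = 5 * 11 := by norm_num
          rw [h]
          exact Nat.Coprime.mul_right h5c h11c
        have h144 : d ∣ 144 := by
          have h : d ∣ 144 * 55 := by
            have h' : (144 * 55 : ℕ) = 7920 := by norm_num
            rw [h']
            exact hNd
          exact Nat.Coprime.dvd_of_dvd_mul_right h55 h
        have key : ∀ d ∈ Nat.divisors 144, ¬ 16 ∣ d → d ∣ 72 := by decide
        exact key d (Nat.mem_divisors.mpr ⟨h144, by norm_num⟩) hN16
      exact no_order_three_support_six hα G hcard h16 ⟨h, hhG⟩ hos hN72 h6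
    · omega
  · have := h5s h hhG h'
    omega
  · exact orderOf_ne_seven hα G hA hhG h'
  · have := support_of_order_eleven hα h'
    omega

theorem sharp_of_card_7920 (hα : Fintype.card α = 11) (G : Subgroup (Perm α))
    [IsPretransitive G α] (hG : ¬ Group.IsSolvable G) (hA : ¬ alternatingGroup α ≤ G)
    (hev : ∀ g ∈ G, Perm.sign g = 1) (hcard : Nat.card G = 7920) :
    IsMultiplyPretransitive G α 4 ∧ ∀ x : Fin 4 ↪ α, stabilizer G x = ⊥ :=
  sharply_four hα G hcard (eight_le_support hα G hG hA hev hcard)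

/-- the theorem for even groups -/
theorem even_case (hα : Fintype.card α = 11) (G : Subgroup (Perm α))
    [IsPretransitive G α] (hG : ¬ Group.IsSolvable G) (hA : ¬ alternatingGroup α ≤ G)
    (hev : ∀ g ∈ G, Perm.sign g = 1) :
    (IsMultiplyPretransitive G α 4 ∧ ∀ x : Fin 4 ↪ α, stabilizer G x = ⊥) ∨
      Nonempty (G ≃* Matrix.ProjectiveSpecialLinearGroup (Fin 2) (ZMod 11)) := by
  rcases card_eq_660_or_7920 hα G hG hA hev with h | h
  · exact Or.inr (iso_of_card_660 hα G hG hev h)
  · exact Or.inl (sharp_of_card_7920 hα G hG hA hev h)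

/-- a group containing an odd permutation is impossible -/
theorem false_of_odd (hα : Fintype.card α = 11) (G : Subgroup (Perm α))
    [IsPretransitive G α] (hG : ¬ Group.IsSolvable G) (hA : ¬ alternatingGroup α ≤ G)
    (τ : Perm α) (hτ : τ ∈ G) (hsign : Perm.sign τ = -1) : False := by
  haveI : Fact (Nat.Prime 11) := ⟨by norm_num⟩
  have hpart := Cfsg.Agent.Helper12.Deg7.even_part G τ hτ hsign
  -- an element of order 11
  have h11 : 11 ∣ Nat.card G := Cfsg.Agent.Helper12.SylowInvol.dvd_card_of_transitive hα G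
  obtain ⟨σ, hσ⟩ := exists_prime_orderOf_dvd_card' 11 h11
  have hσ' : orderOf (σ : Perm α) = 11 := by rw [Subgroup.orderOf_coe]; exact hσ
  have hσG0 : (σ : Perm α) ∈ (G ⊓ alternatingGroup α : Subgroup (Perm α)) :=
    ⟨σ.2, Equiv.Perm.mem_alternatingGroup.mpr
      (Cfsg.Agent.Helper12.Deg7.sign_eq_one_of_odd_order _ (by rw [hσ']; decide))⟩
  haveI : IsPretransitive (G ⊓ alternatingGroup α : Subgroup (Perm α)) α :=
    Cfsg.Agent.Helper12.Deg7.isPretransitive_of_mem hα _ (σ : Perm α) hσ' hσG0
  have hG0 : ¬ Group.IsSolvable (G ⊓ alternatingGroup α : Subgroup (Perm α)) :=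
    fun h => hG (hpart.2 h)
  have hA0 : ¬ alternatingGroup α ≤ (G ⊓ alternatingGroup α : Subgroup (Perm α)) :=
    fun h => hA (le_trans h inf_le_left)
  have hev0 : ∀ g ∈ (G ⊓ alternatingGroup α : Subgroup (Perm α)), Perm.sign g = 1 :=
    fun g hg => Equiv.Perm.mem_alternatingGroup.mp hg.2
  -- three-fold transitivity
  obtain ⟨P⟩ : Nonempty (Sylow 11 G) := inferInstance
  have heven := even_card_normalizer hα G τ hτ hsign P
  have h3 := Cfsg.Agent.S0676.result hα G hG P heven
  obtain ⟨x3⟩ : Nonempty (Fin 3 ↪ α) := by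
    rw [← Fintype.card_pos_iff (α := Fin 3 ↪ α), Fintype.card_embedding_eq, hα]
    decide
  have h990 := card_stabilizer_mul hα G 3 h3 x3
  have hd3 : (11 : ℕ).descFactorial 3 = 990 := by decide
  rw [hd3] at h990
  rcases card_eq_660_or_7920 hα _ hG0 hA0 hev0 with h | h
  · rw [h] at hpart
    have := hpart.1
    omega
  · have hcardG : Nat.card G = 15840 := by rw [hpart.1, h]
    obtain ⟨h40, -⟩ := sharp_of_card_7920 hα _ hG0 hA0 hev0 h
    have h4 : IsMultiplyPretransitive G α 4 := by
      rw [isMultiplyPretransitive_iff] at h40 ⊢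
      intro x y
      obtain ⟨g, hg⟩ := h40 x y
      exact ⟨⟨g.1, g.2.1⟩, hg⟩
    have hst : ∀ x : Fin 4 ↪ α, Nat.card (stabilizer G x) = 2 := by
      intro x
      have := card_stabilizer_mul hα G 4 h4 x
      have hd4 : (11 : ℕ).descFactorial 4 = 7920 := by decide
      rw [hd4, hcardG] at this
      omega
    have h2 : IsMultiplyPretransitive G α 2 :=
      (Cfsg.Agent.S0675.result (by rw [hα]; norm_num) G).resolve_left hG
    exact false_of_stabilizer_card_two hα G
      (fun g hg hg1 => four_le_support hα G hA hg hg1)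
      (fun t ht => no_support_four hα G hA h2 ht)
      (fun f hf ho => support_of_order_five hα G hA hf ho) h4 hst

/-- S0679 -/
theorem main (hα : Fintype.card α = 11) (G : Subgroup (Perm α))
    [IsPretransitive G α] (hG : ¬ Group.IsSolvable G) (hA : ¬ alternatingGroup α ≤ G) :
    (IsMultiplyPretransitive G α 4 ∧ ∀ x : Fin 4 ↪ α, stabilizer G x = ⊥) ∨
      Nonempty (G ≃* Matrix.ProjectiveSpecialLinearGroup (Fin 2) (ZMod 11)) := by
  by_cases hev : ∀ g ∈ G, Perm.sign g = 1
  · exact even_case hα G hG hA hev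
  · exfalso
    push Not at hev
    obtain ⟨τ, hτ, hs⟩ := hev
    have hsign : Perm.sign τ = -1 := (Int.units_eq_one_or _).resolve_left hs
    exact false_of_odd hα G hG hA τ hτ hsign

end Cfsg.Agent.Helper54.D11
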